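import Mathlib.AlgebraicGeometry.ValuativeCriterion
import Mathlib.AlgebraicGeometry.Morphisms.FiniteType
import Mathlib.Topology.Sober
import Mathlib.Order.Filter.Ultrafilter.Basic

/-!
# The valuative criterion and finitely many components give quasi-compactness
-/

universe u

open CategoryTheory AlgebraicGeometry IsLocalRing Filter Topology

noncomputable section

namespace Groth.Agent.ValQc28

variable {X Y : Scheme.{u}} (f : X ⟶ Y) {V₀ : Y.Opens} (hV₀ : IsAffineOpen V₀) (ξ : X)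
  (hξ : ξ ∈ f ⁻¹ᵁ V₀)

/-- Functions on the base, at the chosen point. -/
def φA : Γ(Y, V₀) ⟶ X.residueField ξ := f.appLE V₀ (f ⁻¹ᵁ V₀) le_rfl ≫ X.presheaf.germ _ ξ hξ ≫ X.residue ξ

/-- The valuation subrings over the base. -/
def Over₀ (R : ValuationSubring (X.residueField ξ)) : Prop := ∀ a, φA f ξ hξ a ∈ R

variable (W : X.Opens) (hW : IsAffineOpen W) (hWle : W ≤ f ⁻¹ᵁ V₀) (hWξ : ξ ∈ W)

/-- Functions on an open, at the chosen point. -/
def ψ : Γ(X, W) ⟶ X.residueField ξ := X.presheaf.germ _ ξ hWξ ≫ X.residue ξ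

lemma appLE_ψ : f.appLE V₀ W hWle ≫ ψ ξ W hWξ = φA f ξ hξ := by
  rw [φA, ψ, ← X.presheaf.germ_res_assoc (homOfLE hWle) ξ hWξ, ← Category.assoc, ← Category.assoc, ← Category.assoc,
    Scheme.Hom.appLE_map]

include hW in
lemma fromSpecResidueField_eq : X.fromSpecResidueField ξ = Spec.map (ψ ξ W hWξ) ≫ hW.fromSpec := by
  rw [ψ, Spec.map_comp, Category.assoc, Scheme.fromSpecResidueField,
    ← hW.fromSpecStalk_eq_fromSpecStalk hWξ]
  rfl

lemma exists_affine {U : X.Opens} {z : X} (hz : z ∈ U) : ∃ W : X.Opens, IsAffineOpen W ∧ z ∈ W ∧ W ≤ U := by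
  obtain ⟨_, ⟨W, hW, rfl⟩, hz', hle⟩ := X.isBasis_affineOpens.exists_subset_of_mem_open hz U.2
  exact ⟨W, hW, hz', hle⟩

include hV₀ in
lemma comm₀ : X.fromSpecResidueField ξ ≫ f = Spec.map (φA f ξ hξ) ≫ hV₀.fromSpec := by
  obtain ⟨W, hW, hWξ, hWle⟩ := exists_affine hξ
  rw [fromSpecResidueField_eq ξ W hW hWξ, Category.assoc, ← IsAffineOpen.SpecMap_appLE_fromSpec f hV₀ hW hWle,
    ← Spec.map_comp_assoc, appLE_ψ]

/-- The square of a valuation subring over the base. -/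
def square (R : ValuationSubring (X.residueField ξ)) (hR : Over₀ f ξ hξ R) : ValuativeCommSq f where
  R := R
  K := X.residueField ξ
  i₁ := X.fromSpecResidueField ξ
  i₂ := Spec.map (CommRingCat.ofHom ((φA f ξ hξ).hom.codRestrict R.toSubring hR)) ≫ hV₀.fromSpec
  commSq := ⟨by rw [comm₀ f hV₀ ξ hξ, ← Spec.map_comp_assoc]; rfl⟩

include hV₀ in
/-- A point specialised from the chosen one is the centre of a valuation subring over the base. -/
theorem exists_centre (z : X) (hz : z ∈ f ⁻¹ᵁ V₀) (hs : ξ ⤳ z) :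
    ∃ (R : ValuationSubring (X.residueField ξ)) (hR : Over₀ f ξ hξ R) (l : Spec (.of R) ⟶ X),
      Spec.map (CommRingCat.ofHom (algebraMap R (X.residueField ξ))) ≫ l = X.fromSpecResidueField ξ ∧
      l ≫ f = (square f hV₀ ξ hξ R hR).i₂ ∧ l (closedPoint R) = z := by
  let s : X.presheaf.stalk z ⟶ X.residueField ξ := X.presheaf.stalkSpecializes hs ≫ X.residue ξ
  obtain ⟨R, hR, hloc⟩ := exists_factor_valuationRing s.hom
  let s' : X.presheaf.stalk z ⟶ .of R := CommRingCat.ofHom (s.hom.codRestrict _ hR)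
  obtain ⟨W, hW, hWz, hWle⟩ := exists_affine hz
  have hWξ : ξ ∈ W := hs.mem_open W.2 hWz
  have hψ : X.presheaf.germ W z hWz ≫ s = ψ ξ W hWξ := by
    simp only [s, ψ]
    rw [X.presheaf.germ_stalkSpecializes_assoc]
  have hover : Over₀ f ξ hξ R := fun a => by
    rw [← appLE_ψ f ξ hξ W hWle hWξ, ← hψ]
    exact hR _
  refine ⟨R, hover, Spec.map s' ≫ X.fromSpecStalk z, ?_, ?_, ?_⟩
  · rw [← Spec.map_comp_assoc, show s' ≫ CommRingCat.ofHom (algebraMap R (X.residueField ξ)) = s from rfl,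
      Spec.map_comp, Category.assoc, Scheme.SpecMap_stalkSpecializes_fromSpecStalk]
    rfl
  · rw [← hW.fromSpecStalk_eq_fromSpecStalk hWz, show hW.fromSpecStalk hWz =
      Spec.map (X.presheaf.germ W z hWz) ≫ hW.fromSpec from rfl, Category.assoc, Category.assoc,
      ← IsAffineOpen.SpecMap_appLE_fromSpec f hV₀ hW hWle, ← Spec.map_comp_assoc, ← Spec.map_comp_assoc]
    show Spec.map _ ≫ hV₀.fromSpec = Spec.map _ ≫ hV₀.fromSpec
    congr 2
    refine CommRingCat.hom_ext (RingHom.ext fun a => Subtype.ext ?_)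
    show s.hom (X.presheaf.germ W z hWz (f.appLE V₀ W hWle a)) = φA f ξ hξ a
    rw [← appLE_ψ f ξ hξ W hWle hWξ, ← hψ]
    rfl
  · show X.fromSpecStalk z (Spec.map s' (closedPoint R)) = z
    have : Spec.map s' (closedPoint R) = closedPoint (X.presheaf.stalk z) :=
      comap_closedPoint (S := R) (s.hom.codRestrict R.toSubring hR)
    rw [this, X.fromSpecStalk_closedPoint]

variable (hf : ValuativeCriterion f)

set_option maxHeartbeats 1000000 in
include hV₀ hf hξ in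
theorem exists_finite_cover [LocallyOfFiniteType f] :
    ∃ F : Finset {W : X.affineOpens // (W : X.Opens) ≤ f ⁻¹ᵁ V₀},
      ∀ z ∈ f ⁻¹ᵁ V₀, ξ ⤳ z → ∃ W ∈ F, z ∈ (W.1 : X.Opens) := by
  classical
  by_contra hne
  push Not at hne
  choose z hzU hzs hzW using hne
  have hc := fun F => exists_centre f hV₀ ξ hξ (z F) (hzU F) (hzs F)
  choose R hover l hl₁ hl₂ hl₃ using hc
  have key : ∀ F W, W ∈ F → ∀ hWξ : ξ ∈ (W.1 : X.Opens), ∃ b, ψ ξ (W.1 : X.Opens) hWξ b ∉ R F := by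
    intro F W hWF hWξ
    by_contra hall
    push Not at hall
    let p : CommRingCat.of _ ⟶ CommRingCat.of (R F) := CommRingCat.ofHom ((ψ ξ (W.1 : X.Opens) hWξ).hom.codRestrict
      (R F).toSubring hall)
    let S := square f hV₀ ξ hξ (R F) (hover F)
    obtain ⟨u⟩ := hf S
    have h1 : Spec.map (CommRingCat.ofHom (algebraMap (R F) (X.residueField ξ))) ≫ (Spec.map p ≫ W.1.2.fromSpec) =
        X.fromSpecResidueField ξ := by
      rw [← Spec.map_comp_assoc, fromSpecResidueField_eq ξ _ W.1.2 hWξ]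
      rfl
    have h2 : (Spec.map p ≫ W.1.2.fromSpec) ≫ f = S.i₂ := by
      rw [Category.assoc, ← IsAffineOpen.SpecMap_appLE_fromSpec f hV₀ W.1.2 W.2, ← Spec.map_comp_assoc]
      show Spec.map _ ≫ hV₀.fromSpec = Spec.map _ ≫ hV₀.fromSpec
      congr 2
      refine CommRingCat.hom_ext (RingHom.ext fun a => Subtype.ext ?_)
      show ψ ξ (W.1 : X.Opens) hWξ (f.appLE V₀ _ W.2 a) = φA f ξ hξ a
      rw [← appLE_ψ f ξ hξ _ W.2 hWξ]
      rfl
    have he : l F = Spec.map p ≫ W.1.2.fromSpec := congrArg CommSq.LiftStruct.l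
      (@Subsingleton.elim _ (@Unique.instSubsingleton _ u) (⟨l F, hl₁ F, hl₂ F⟩ : S.commSq.LiftStruct) ⟨_, h1, h2⟩)
    refine hzW F W hWF ?_
    rw [← hl₃ F, he]
    exact W.1.2.range_fromSpec.subset ⟨Spec.map p (closedPoint (R F)), rfl⟩
  -- the limit valuation subring
  let 𝒰 : Ultrafilter (Finset {W : X.affineOpens // (W : X.Opens) ≤ f ⁻¹ᵁ V₀}) := Ultrafilter.of atTop
  let L : ValuationSubring (X.residueField ξ) :=
    { carrier := {x | ∀ᶠ F in (𝒰 : Filter (Finset {W : X.affineOpens // (W : X.Opens) ≤ f ⁻¹ᵁ V₀})), x ∈ R F}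
      mul_mem' := fun ha hb => (Filter.Eventually.and ha hb).mono fun F h => mul_mem h.1 h.2
      one_mem' := Eventually.of_forall fun F => one_mem _
      add_mem' := fun ha hb => (Filter.Eventually.and ha hb).mono fun F h => add_mem h.1 h.2
      zero_mem' := Eventually.of_forall fun F => zero_mem _
      neg_mem' := fun ha => Filter.Eventually.mono ha fun F h => neg_mem h
      mem_or_inv_mem' := fun x => Ultrafilter.eventually_or.1
        (Eventually.of_forall fun F => (R F).mem_or_inv_mem x) }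
  have hL : Over₀ f ξ hξ L := fun a => Eventually.of_forall fun F => hover F a
  let S := square f hV₀ ξ hξ L hL
  obtain ⟨u⟩ := hf S
  let lL : Spec (.of L) ⟶ X := u.default.l
  have hcU : lL (closedPoint L) ∈ f ⁻¹ᵁ V₀ := by
    show f (lL (closedPoint L)) ∈ V₀
    show f (lL (closedPoint L)) ∈ V₀
    have h : ∀ x, f (lL x) = S.i₂ x := fun x => by
      have e : lL ≫ f = S.i₂ := u.default.fac_right
      rw [← e]
      rfl
    refine Eq.mpr (congrArg (· ∈ V₀) (h (closedPoint L))) ?_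
    exact hV₀.range_fromSpec.subset ⟨_, rfl⟩
  obtain ⟨W, hW, hWc, hWle⟩ := exists_affine hcU
  have hrange : Set.range lL ⊆ Set.range hW.fromSpec := by
    rw [hW.range_fromSpec]
    rintro _ ⟨x, rfl⟩
    exact ((specializes_closedPoint x).map lL.continuous).mem_open W.2 hWc
  have hfl : Spec.map (CommRingCat.ofHom (algebraMap L (X.residueField ξ))) ≫ lL = X.fromSpecResidueField ξ :=
    u.default.fac_left
  have hWξ : ξ ∈ W := by
    rw [← Scheme.fromSpecResidueField_apply ξ (closedPoint (X.residueField ξ)), ← hfl]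
    exact hW.range_fromSpec.subset (hrange ⟨Spec.map _ (closedPoint (X.residueField ξ)), rfl⟩)
  obtain ⟨q, hq⟩ : ∃ q, Spec.map q = IsOpenImmersion.lift hW.fromSpec lL hrange :=
    Spec.map_surjective _
  have hψ : ψ ξ W hWξ = q ≫ CommRingCat.ofHom (algebraMap L (X.residueField ξ)) := by
    refine Spec.map_injective ?_
    rw [← cancel_mono hW.fromSpec, ← fromSpecResidueField_eq ξ W hW hWξ, Spec.map_comp, Category.assoc, hq,
      IsOpenImmersion.lift_fac, hfl]
  have hmem : ∀ b, ψ ξ W hWξ b ∈ L := fun b => by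
    rw [hψ]
    exact (q b).2
  obtain ⟨s, hs⟩ : ∃ s : Finset Γ(X, W), ∀ F, (∀ b ∈ s, ψ ξ W hWξ b ∈ R F) → ∀ b, ψ ξ W hWξ b ∈ R F := by
    letI := (f.appLE V₀ W hWle).hom.toAlgebra
    haveI : Algebra.FiniteType Γ(Y, V₀) Γ(X, W) := f.finiteType_appLE hV₀ hW hWle
    obtain ⟨s, hs⟩ := Algebra.FiniteType.out (R := Γ(Y, V₀)) (A := Γ(X, W))
    refine ⟨s, fun F h b => ?_⟩
    have hb : b ∈ Algebra.adjoin Γ(Y, V₀) (s : Set Γ(X, W)) := hs ▸ Algebra.mem_top
    induction hb using Algebra.adjoin_induction with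
    | mem x hx => exact h x hx
    | algebraMap a =>
      show ψ ξ W hWξ (f.appLE V₀ W hWle a) ∈ R F
      rw [show ψ ξ W hWξ (f.appLE V₀ W hWle a) = φA f ξ hξ a from by rw [← appLE_ψ f ξ hξ W hWle hWξ]; rfl]
      exact hover F a
    | add x y _ _ hx hy => rw [map_add]; exact add_mem hx hy
    | mul x y _ _ hx hy => rw [map_mul]; exact mul_mem hx hy
  have h1 : ∀ᶠ F in (𝒰 : Filter _), ∀ b ∈ s, ψ ξ W hWξ b ∈ R F :=
    (s.finite_toSet.eventually_all).2 fun b _ => hmem b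
  let e : {W : X.affineOpens // (W : X.Opens) ≤ f ⁻¹ᵁ V₀} := ⟨⟨W, hW⟩, hWle⟩
  have hev : {F : Finset {W : X.affineOpens // (W : X.Opens) ≤ f ⁻¹ᵁ V₀} | e ∈ F} ∈ (atTop : Filter (Finset {W : X.affineOpens // (W : X.Opens) ≤ f ⁻¹ᵁ V₀})) :=
    mem_atTop_sets.2 ⟨{e}, fun F hF => Finset.le_iff_subset.1 hF (Finset.mem_singleton_self e)⟩
  have h2 := Ultrafilter.of_le atTop hev
  obtain ⟨F, hF1, hF2⟩ := (Filter.Eventually.and h1 h2).exists
  obtain ⟨b, hb⟩ := key F _ hF2 hWξ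
  exact hb (hs F hF1 b)

theorem quasiCompact [LocallyOfFiniteType f] (hf : ValuativeCriterion f)
    (hX : (irreducibleComponents ↥X).Finite) : QuasiCompact f := by
  classical
  rw [quasiCompact_iff_forall_isAffineOpen]
  intro V₀ hV₀
  have hfin : {ξ : X | ξ ∈ genericPoints X ∧ ξ ∈ f ⁻¹ᵁ V₀}.Finite := (genericPoints.finite hX).subset fun _ h => h.1
  choose F hF using fun ξ : {ξ : X | ξ ∈ genericPoints X ∧ ξ ∈ f ⁻¹ᵁ V₀} =>
    exists_finite_cover f hV₀ ξ.1 ξ.2.2 hf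
  haveI := hfin.fintype
  have hcov : ((f ⁻¹ᵁ V₀ : X.Opens) : Set X) =
      ⋃ W ∈ Finset.univ.biUnion F, ((W.1 : X.Opens) : Set X) := by
    refine subset_antisymm (fun z hz => ?_) (Set.iUnion₂_subset fun W _ => W.2)
    obtain ⟨Z, hZ, hzZ⟩ : ∃ Z ∈ irreducibleComponents ↥X, z ∈ Z :=
      ⟨_, irreducibleComponent_mem_irreducibleComponents z, mem_irreducibleComponent⟩
    let x := genericPoints.ofComponent ⟨Z, hZ⟩
    have hx : IsGenericPoint (x : X) Z := hZ.1.isGenericPoint_genericPoint (isClosed_of_mem_irreducibleComponents Z hZ)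
    have hs : (x : X) ⤳ z := hx.specializes hzZ
    have hxU : (x : X) ∈ f ⁻¹ᵁ V₀ := hs.mem_open (f ⁻¹ᵁ V₀).2 hz
    obtain ⟨W, hW, hzW⟩ := hF ⟨x, x.2, hxU⟩ z hz hs
    exact Set.mem_iUnion₂.2 ⟨W, Finset.mem_biUnion.2 ⟨_, Finset.mem_univ _, hW⟩, hzW⟩
  show IsCompact ((f ⁻¹ᵁ V₀ : X.Opens) : Set X)
  rw [hcov]
  exact Finset.isCompact_biUnion _ fun W _ => W.1.2.isCompact

end Groth.Agent.ValQc28
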